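import Cfsg.Agent.ClassicalGeometry.AutPSL.Main
import Cfsg.Agent.H300.OuterJThree
import Cfsg.Agent.H495.Wf.J3
import Cfsg.Agent.H609.TH.Expl
import Cfsg.Agent.H715.Fpr.J3
import Cfsg.Agent.H792.Sp.JThreeExp
import Cfsg.Agent.OrdDiv.Table
import Cfsg.Agent.FastGrp
import Cfsg.Agent.Prune
set_option linter.all false
prune_inst 0x7f00000000000000000000000000000000000000000000000000000000000000000000000000000000000000000000000000000000000000000000000000000000000000000000000000000000000000003fffffffffffffffffffffffffffbeffbdffffffff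
open scoped Cfsg.Agent.FastGrp

/-!
# S3938, the row `J₃` (helper299)

`spr_j3` : for every automorphism `α ≠ 1` of `T = J₃` there is an `x` which is in no proper `α`-invariant subgroup.

An element `s` of order 19 is in `N(⟨s⟩)` and in at most three subgroups `L₂(19)`.
* inner automorphisms: counting, with `|C(a)| ≤ 27` for the elements of order nine (`card_cent_nine`) and `|C(g)| ≤ 2430` for
  the elements of prime order (`card_cent_prime`);
* outer automorphisms: they leave invariant no subgroup `L₂(19)` (`not_inv`), since every automorphism of `L₂(19)` agrees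
  with an inner one on an element of order ten (`exists_pair`), and an outer automorphism of `J₃` does not fix commuting
  elements of orders two and five (`no_pair`). `goodA_of_no_inv` is the general criterion.
-/

set_option autoImplicit false

namespace Cfsg.Agent.H299.SprJ3

section PartA

open Matrix
open Cfsg.Agent.ClassicalGeometry.AutPSL.Root Cfsg.Agent.ClassicalGeometry.AutPSL.Auto
open Cfsg.Agent.ClassicalGeometry.AutPSL.Main

section PSL

variable {F : Type*} [Field F]

theorem ringAut_eq [Fintype F] (hF : Fintype.card F = 19) (σ : F ≃+* F) (x : F) : σ x = x := by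
  have hp : Fact (Nat.Prime 19) := ⟨by norm_num⟩
  have : CharP F 19 := charP_of_card_eq_prime hF
  obtain ⟨k, rfl⟩ := (ZMod.ringEquiv F hF).surjective x
  rw [← ZMod.natCast_zmod_val k, map_natCast, map_natCast]

/-- the torus: the matrices `x + y i` -/
def tor (x y : F) : Matrix (Fin 2) (Fin 2) F := !![x, y; -y, x]

theorem tor_comm (x y x' y' : F) : tor x y * tor x' y' = tor x' y' * tor x y := by
  ext i j
  (revert i j; simp only [tor, Matrix.mul_apply, Fin.sum_univ_two, _root_.Fin.forall_fin_succ, _root_.Matrix.of_apply, _root_.Matrix.cons_val', _root_.Matrix.cons_val_fin_one, Fin.isValue, _root_.Matrix.cons_val_zero, _root_.Matrix.cons_val_one, _root_.mul_neg, _root_.Matrix.cons_val_succ, _root_.forall_const, _root_.neg_mul]) <;> (repeat' with_reducible apply And.intro) <;> ring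

theorem det_tor (x y : F) : (tor x y).det = x ^ 2 + y ^ 2 := by
  simp only [tor, Matrix.det_fin_two, _root_.Fin.isValue, _root_.Matrix.of_apply, _root_.Matrix.cons_val', _root_.Matrix.cons_val_zero, _root_.Matrix.cons_val_fin_one, _root_.Matrix.cons_val_one, _root_.mul_neg, _root_.sub_neg_eq_add]; ring

/-- the elements of the torus of determinant 1 -/
def torS (a b : F) (h : (tor a b).det = 1) : Matrix.SpecialLinearGroup (Fin 2) F := ⟨tor a b, h⟩

theorem pr_torS_ne {a b : F} (h : (tor a b).det = 1) (hb : b ≠ 0) :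
    (pr (torS a b h) : Matrix.ProjectiveSpecialLinearGroup (Fin 2) F) ≠ 1 := by
  intro h1
  have h2 : torS a b h ∈ Subgroup.center _ := (QuotientGroup.eq_one_iff _).1 h1
  rw [Subgroup.mem_center_iff] at h2
  have h3 : (!![1, 1; 0, 1] * tor a b : Matrix (Fin 2) (Fin 2) F) 0 0 = (tor a b * !![1, 1; 0, 1] : Matrix (Fin 2) (Fin 2) F) 0 0 :=
    congrArg (fun g : Matrix.SpecialLinearGroup (Fin 2) F => (g : Matrix (Fin 2) (Fin 2) F) 0 0)
      (h2 ⟨!![1, 1; 0, 1], by simp [Matrix.det_fin_two]⟩)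
  simp [tor, Matrix.mul_apply, Fin.sum_univ_two] at h3
  exact hb h3

/-- every automorphism of `PSL₂(19)` maps two commuting elements of orders 2 and 5 to conjugates, simultaneously -/
theorem exists_pair [Fintype F] (hF : Fintype.card F = 19) (β : MulAut (Matrix.ProjectiveSpecialLinearGroup (Fin 2) F)) :
    ∃ n t w : Matrix.ProjectiveSpecialLinearGroup (Fin 2) F, orderOf t = 2 ∧ orderOf w = 5 ∧ w * t = t * w ∧
      β t = n * t * n⁻¹ ∧ β w = n * w * n⁻¹ := by
  have hp : Fact (Nat.Prime 19) := ⟨by norm_num⟩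
  have hch : CharP F 19 := charP_of_card_eq_prime hF
  obtain ⟨A, σ, rfl⟩ := surj_two 19 β
  have hσ : ∀ g : Matrix.SpecialLinearGroup (Fin 2) F, fld σ g = g := by
    intro g
    apply Subtype.ext
    ext i j
    rw [coe_fld_apply, ringAut_eq hF]
  obtain ⟨x, y, hxy⟩ : ∃ x y : F, x ^ 2 + y ^ 2 = ((A : Matrix (Fin 2) (Fin 2) F).det)⁻¹ := by
    obtain ⟨k, hk⟩ := (ZMod.ringEquiv F hF).surjective ((A : Matrix (Fin 2) (Fin 2) F).det)⁻¹
    obtain ⟨a, b, hab⟩ := ZMod.sq_add_sq 19 k
    refine ⟨ZMod.ringEquiv F hF a, ZMod.ringEquiv F hF b, ?_⟩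
    rw [← map_pow, ← map_pow, ← map_add, hab, hk]
  have hdet : ((A : Matrix (Fin 2) (Fin 2) F) * tor x y).det = 1 := by
    rw [Matrix.det_mul, det_tor, hxy, mul_inv_cancel₀]
    have := A.isUnit
    rw [Matrix.isUnit_iff_isUnit_det] at this
    exact this.ne_zero
  obtain ⟨M, hM⟩ : ∃ M : Matrix.SpecialLinearGroup (Fin 2) F, M.1 = (A : Matrix (Fin 2) (Fin 2) F) * tor x y :=
    ⟨⟨(A : Matrix (Fin 2) (Fin 2) F) * tor x y, hdet⟩, rfl⟩
  have key : ∀ (a b : F) (h : (tor a b).det = 1), cj A (torS a b h) = M * torS a b h * M⁻¹ := by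
    intro a b h
    rw [eq_mul_inv_iff_mul_eq]
    apply Subtype.ext
    change (A : Matrix (Fin 2) (Fin 2) F) * tor a b * ((A⁻¹ : GL (Fin 2) F) : Matrix (Fin 2) (Fin 2) F) * M.1 =
      M.1 * tor a b
    rw [hM]
    have h1 : ((A⁻¹ : GL (Fin 2) F) : Matrix (Fin 2) (Fin 2) F) * (A : Matrix (Fin 2) (Fin 2) F) = 1 := by
      rw [← Units.val_mul, inv_mul_cancel, Units.val_one]
    calc (A : Matrix (Fin 2) (Fin 2) F) * tor a b * ((A⁻¹ : GL (Fin 2) F) : Matrix (Fin 2) (Fin 2) F) *
        ((A : Matrix (Fin 2) (Fin 2) F) * tor x y)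
        = (A : Matrix (Fin 2) (Fin 2) F) * tor a b * (((A⁻¹ : GL (Fin 2) F) : Matrix (Fin 2) (Fin 2) F) *
          (A : Matrix (Fin 2) (Fin 2) F)) * tor x y := by simp only [Matrix.mul_assoc]
      _ = (A : Matrix (Fin 2) (Fin 2) F) * (tor a b * tor x y) := by rw [h1, Matrix.mul_one, Matrix.mul_assoc]
      _ = _ := by rw [tor_comm, Matrix.mul_assoc]
  have h19 : (19 : F) = 0 := by
    have := CharP.cast_eq_zero F 19
    exact_mod_cast this
  have hJ : (tor (0 : F) 1).det = 1 := by rw [det_tor]; ring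
  have hW : (tor (2 : F) 4).det = 1 := by rw [det_tor]; linear_combination h19
  have hlift : ∀ (a b : F) (h : (tor a b).det = 1), lift (cj A * fld σ) (pr (torS a b h)) =
      pr M * pr (torS a b h) * (pr M)⁻¹ := by
    intro a b h
    rw [lift_pr, MulAut.mul_apply, hσ, key, map_mul, map_mul, map_inv]
  have h4 : (4 : F) ≠ 0 := by
    intro h3
    have h5 : ((4 : ℕ) : F) = 0 := by exact_mod_cast h3
    rw [CharP.cast_eq_zero_iff F 19] at h5
    omega
  refine ⟨pr M, pr (torS 0 1 hJ), pr (torS 2 4 hW), ?_, ?_, ?_, hlift _ _ _, hlift _ _ _⟩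
  · refine orderOf_eq_prime ?_ (pr_torS_ne _ one_ne_zero)
    rw [← map_pow]
    refine (QuotientGroup.eq_one_iff _).2 ?_
    rw [Subgroup.mem_center_iff]
    intro g
    apply Subtype.ext
    have h1 : (torS (0 : F) 1 hJ ^ 2).1 = (-1 : Matrix (Fin 2) (Fin 2) F) := by
      rw [Matrix.SpecialLinearGroup.coe_pow]
      ext i j
      (revert i j; simp only [torS, tor, pow_two, Matrix.mul_apply, Fin.sum_univ_two, _root_.Fin.forall_fin_succ, _root_.Matrix.of_apply, _root_.Matrix.cons_val', _root_.Matrix.cons_val_fin_one, Fin.isValue, _root_.Matrix.cons_val_zero, _root_.Matrix.cons_val_one, _root_.Matrix.neg_apply, _root_.MulZeroClass.mul_zero, _root_.mul_neg, _root_.mul_one, _root_.zero_add, _root_.neg_inj, _root_.Matrix.cons_val_succ, _root_.add_zero, _root_.IsEmpty.forall_iff, _root_.and_true, _root_.Matrix.one_apply_eq, Nat.reduceAdd, _root_.Fin.succ_zero_eq_one, _root_.ne_eq, _root_.zero_ne_one, _root_.not_false_eq_true, _root_.Matrix.one_apply_ne, _root_.neg_zero,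 _root_.and_self, _root_.Fin.succ_ne_zero, _root_.true_and])
    rw [Matrix.SpecialLinearGroup.coe_mul, Matrix.SpecialLinearGroup.coe_mul, h1]
    simp
  · have : Fact (Nat.Prime 5) := ⟨by norm_num⟩
    refine orderOf_eq_prime ?_ (pr_torS_ne _ h4)
    rw [← map_pow]
    have h1 : torS (2 : F) 4 hW ^ 5 = 1 := by
      apply Subtype.ext
      rw [Matrix.SpecialLinearGroup.coe_pow]
      change tor 2 4 ^ 5 = 1
      ext i j
      (revert i j; simp only [tor, pow_succ, Matrix.mul_apply, Fin.sum_univ_two, _root_.Fin.forall_fin_succ, _root_.pow_zero, _root_.one_mul, _root_.Matrix.cons_mul, _root_.Nat.succ_eq_add_one, Nat.reduceAdd, _root_.Matrix.vecMul_cons, _root_.Matrix.head_cons, _root_.Matrix.smul_cons, _root_.smul_eq_mul, _root_.Matrix.smul_empty, _root_.Matrix.tail_cons, _root_.mul_neg, _root_.Matrix.empty_vecMul, _root_.add_zero, _root_.Matrix.add_cons, _root_.Matrix.empty_add_empty, _root_.neg_smul, _root_.Matrix.neg_cons, _root_.Matrix.neg_empty, _root_.Matrix.empty_mul,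 _root_.Equiv.symm_apply_apply, _root_.Matrix.of_apply, _root_.Matrix.cons_val', _root_.Matrix.cons_val_fin_one, Fin.isValue, _root_.Matrix.cons_val_zero, _root_.Matrix.cons_val_one, _root_.Matrix.cons_val_succ, _root_.IsEmpty.forall_iff, _root_.Matrix.one_apply_eq, _root_.Fin.succ_zero_eq_one, _root_.ne_eq, _root_.zero_ne_one, _root_.not_false_eq_true, _root_.Matrix.one_apply_ne, _root_.Fin.succ_ne_zero, _root_.and_true, _root_.true_and]) <;> (repeat' with_reducible apply And.intro)
      · linear_combination 69 * h19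
      · linear_combination (-64) * h19
      · linear_combination 64 * h19
      · linear_combination 69 * h19
    rw [h1, map_one]
  · rw [← map_mul, ← map_mul]
    congr 1
    apply Subtype.ext
    exact tor_comm _ _ _ _

end PSL

end PartA

section PartB

open Subgroup Cfsg Cfsg.Spor Cfsg.Agent.H749 Cfsg.Agent.H792.SpCube Cfsg.Agent.H792.SpJ3 Cfsg.Agent.J3.Core
  Cfsg.Agent.J3.Tab Cfsg.Agent.J3.Mono Cfsg.Agent.J3.Elts Cfsg.Agent.H898.J3Three

section Nine

variable {F : Type} [Field F] [Fintype F] {ω : F}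

/-- the elements of order nine of `S` do not commute with `E` -/
theorem not_comm_e (hF : Fintype.card F = 4) (H : Good ω) (G : Gens F ω) {k : ℕ} {a w : F9}
    (h9 : orderOf (pr (G.e ^ k * (G.a a * G.d w)) : J3 F ω) = 9) :
    (pr (G.e ^ k * (G.a a * G.d w)) : J3 F ω) * pr G.e ≠ pr G.e * pr (G.e ^ k * (G.a a * G.d w)) := by
  intro h
  have hw := w_zero hF H G h
  subst hw
  have h3 : (pr (G.e ^ k * (G.a a * G.d 0)) : J3 F ω) ^ 3 = 1 := by
    rw [d_zero G, mul_one, map_mul, map_pow]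
    have h2 : Commute (pr (G.e) : J3 F ω) (pr (G.a a)) := by
      show pr G.e * pr (G.a a) = pr (G.a a) * pr G.e
      rw [← map_mul, ← ae G H, map_mul]
    rw [(h2.pow_left k).mul_pow, cube_Z H G, mul_one, ← pow_mul, mul_comm, pow_mul, ← map_pow, e_cube G H, map_one,
      one_pow]
  have h4 := orderOf_dvd_of_pow_eq_one h3
  rw [h9] at h4
  omega

/-- the cubes of the elements of order nine of `S` -/
theorem cube_mem_Z (hF : Fintype.card F = 4) (H : Good ω) (G : Gens F ω) [Fact (Nat.Prime 3)]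
    (S : Sylow 3 (J3 F ω)) (hS : ∀ x : J3 F ω, x ∈ (S : Subgroup (J3 F ω)) ↔
      ∃ (k : ℕ) (a w : F9), x = pr (G.e ^ k * (G.a a * G.d w))) {x : J3 F ω} (hx : x ∈ (S : Subgroup (J3 F ω)))
    (h9 : orderOf x = 9) : ∃ a : F9, x ^ 3 = pr (G.a a) := by
  obtain ⟨k', a', w', h3⟩ := (hS _).1 (pow_mem hx 3)
  obtain ⟨k, a, w, hxe⟩ := (hS x).1 hx
  have h27 : (pr (G.e ^ k' * (G.a a' * G.d w')) : J3 F ω) ^ 3 = 1 := by
    rw [← h3, ← pow_mul, show 3 * 3 = 9 by norm_num, ← h9]
    exact pow_orderOf_eq_one x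
  have hw : w' = 0 := by
    by_contra hw
    apply cube_ne H G hw (k := k') (a := a')
    apply cube_eq_one hF H
    rw [← map_pow] at h27
    exact (QuotientGroup.eq_one_iff _).1 h27
  subst hw
  rw [d_zero G, mul_one] at h3
  refine ⟨a', ?_⟩
  have hk : k' % 3 = 0 := by
    by_contra hk
    -- `E ^ k'` commutes with `x`
    have h4 : x * x ^ 3 = x ^ 3 * x := by rw [← pow_succ', ← pow_succ]
    have h5 : (pr (G.a a') : J3 F ω) * x = x * pr (G.a a') := by
      rw [hxe]
      exact pr_comm hF H G a' k a w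
    have h6 : x * pr G.e ^ k' = pr G.e ^ k' * x := by
      rw [h3, map_mul, map_pow] at h4
      have h7 : x * (pr G.e ^ k' * pr (G.a a')) = (pr G.e ^ k' * x) * pr (G.a a') := by
        rw [h4, mul_assoc, h5, mul_assoc]
      rw [← mul_assoc] at h7
      exact mul_right_cancel h7
    have h7 : x * (pr G.e ^ k') ^ (k' % 3) = (pr G.e ^ k') ^ (k' % 3) * x :=
      ((show Commute x (pr G.e ^ k') from h6).pow_right _).eq
    have h8 : ((pr G.e : J3 F ω) ^ k') ^ (k' % 3) = pr G.e := by
      have h9 : (G.e ^ k') ^ (k' % 3) = G.e := by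
        rw [← pow_mul, e_mod H G]
        have h10 : k' * (k' % 3) % 3 = 1 := by
          have h11 : k' % 3 = 1 ∨ k' % 3 = 2 := by omega
          rw [Nat.mul_mod, Nat.mod_mod]
          rcases h11 with h | h <;> rw [h]
        rw [h10, pow_one]
      rw [← map_pow, ← map_pow, h9]
    rw [h8] at h7
    refine not_comm_e hF H G (k := k) (a := a) (w := w) (by rw [← hxe]; exact h9) ?_
    rw [← hxe]
    exact h7
  rw [h3, e_mod H G k', hk, pow_zero, one_mul]

/-- no involution commutes with the cube of an element of order nine -/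
theorem no_inv_nine (hF : Fintype.card F = 4) (hω : ω ^ 2 + ω + 1 = 0) (H : Good ω) (G : Gens F ω)
    {x t : J3 F ω} (h9 : orderOf x = 9) (ht : orderOf t = 2) (htx : t * x ^ 3 = x ^ 3 * t) : False := by
  have : Fact (Nat.Prime 3) := ⟨Nat.prime_three⟩
  obtain ⟨S, hS⟩ := exists_S hF H G
  have hfin := finite_three hF H
  have hP : IsPGroup 3 (zpowers x) := IsPGroup.of_card (n := 2) (by rw [Nat.card_zpowers, h9]; norm_num)
  obtain ⟨Q, hQ⟩ := hP.exists_le_sylow
  obtain ⟨g, hg⟩ := MulAction.exists_smul_eq (J3 F ω) Q S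
  have hconj : ∀ y : J3 F ω, orderOf (g * y * g⁻¹) = orderOf y := fun y =>
    orderOf_injective (MulAut.conj g).toMonoidHom (MulAut.conj g).injective y
  have h1 : g * x * g⁻¹ ∈ (S : Subgroup (J3 F ω)) := by
    rw [← hg, Sylow.coe_subgroup_smul]
    exact Subgroup.smul_mem_pointwise_smul x (MulAut.conj g) _ (hQ (mem_zpowers x))
  obtain ⟨a, ha⟩ := cube_mem_Z hF H G S hS h1 (by rw [hconj]; exact h9)
  rw [conj_pow] at ha
  refine no_inv hF hω H G (a := a) (t := g * t * g⁻¹) ?_ (by rw [hconj]; exact ht) ?_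
  · rw [← ha]
    intro h2
    have h3 : x ^ 3 = 1 := by
      have h4 : x ^ 3 = g⁻¹ * (g * x ^ 3 * g⁻¹) * g := by group
      rw [h4, h2]
      group
    have h4 := orderOf_dvd_of_pow_eq_one h3
    rw [h9] at h4
    omega
  · rw [← ha]
    calc g * t * g⁻¹ * (g * x ^ 3 * g⁻¹) = g * (t * x ^ 3) * g⁻¹ := by group
      _ = g * (x ^ 3 * t) * g⁻¹ := by rw [htx]
      _ = _ := by group

/-- the centralizer in `S` of an element of order nine -/
theorem card_cent_S (hF : Fintype.card F = 4) (H : Good ω) (G : Gens F ω) [Fact (Nat.Prime 3)]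
    (S : Sylow 3 (J3 F ω)) (hS : ∀ x : J3 F ω, x ∈ (S : Subgroup (J3 F ω)) ↔
      ∃ (k : ℕ) (a w : F9), x = pr (G.e ^ k * (G.a a * G.d w))) (hS5 : Nat.card (S : Subgroup (J3 F ω)) = 243)
    (x : (S : Subgroup (J3 F ω))) (h9 : orderOf x = 9) : Nat.card (centralizer ({x} : Set (S : Subgroup (J3 F ω)))) ≤ 27 := by
  classical
  have hfin := finite_three hF H
  obtain ⟨k, a, w, hxe⟩ := (hS x).1 x.2
  have h9' : orderOf (x : J3 F ω) = 9 := by rw [Subgroup.orderOf_coe]; exact h9
  set C := centralizer ({x} : Set (S : Subgroup (J3 F ω))) with hC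
  have hdvd : Nat.card C ∣ 3 ^ 5 := by
    have := card_subgroup_dvd_card C
    rw [hS5] at this
    exact this
  obtain ⟨j, hj, hcj⟩ := (Nat.dvd_prime_pow Nat.prime_three).1 hdvd
  by_contra hgt
  have hj4 : j = 4 ∨ j = 5 := by
    by_contra h
    apply hgt
    rw [hcj]
    calc 3 ^ j ≤ 3 ^ 3 := Nat.pow_le_pow_right (by norm_num) (by omega)
      _ = 27 := by norm_num
  have hmem : ∀ y : (S : Subgroup (J3 F ω)), y ∈ C ↔ y * x = x * y := fun y => mem_centralizer_singleton_iff
  -- the elements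
  have hA : (pr (G.a (2, 1)) : J3 F ω) ∈ (S : Subgroup (J3 F ω)) :=
    (hS _).2 ⟨0, (2, 1), 0, by rw [pow_zero, one_mul, d_zero G, mul_one]⟩
  have hE : (pr G.e : J3 F ω) ∈ (S : Subgroup (J3 F ω)) :=
    (hS _).2 ⟨1, 0, 0, by rw [pow_one, a_zero H G, d_zero G, mul_one, mul_one]⟩
  have hD : ∀ v : F9, (pr (G.d v) : J3 F ω) ∈ (S : Subgroup (J3 F ω)) := fun v =>
    (hS _).2 ⟨0, 0, v, by rw [pow_zero, one_mul, a_zero H G, one_mul]⟩
  -- `C` contains the commutators
  have hcomm : ∀ y z : (S : Subgroup (J3 F ω)), y * z * y⁻¹ * z⁻¹ ∈ C := by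
    have hidx : C.index = 1 ∨ C.index = 3 := by
      have h1 := Subgroup.card_mul_index C
      rw [hS5, hcj] at h1
      rcases hj4 with rfl | rfl
      · right; omega
      · left; omega
    have hn : C.Normal := by
      rcases hidx with h | h
      · rw [Subgroup.index_eq_one.1 h]; infer_instance
      · refine Subgroup.normal_of_index_eq_minFac_card ?_
        rw [h, hS5]
        norm_num
    have hcq : ∀ y z : (S : Subgroup (J3 F ω)) ⧸ C, y * z = z * y := by
      have hcard : Nat.card ((S : Subgroup (J3 F ω)) ⧸ C) = 1 ∨ Nat.card ((S : Subgroup (J3 F ω)) ⧸ C) = 3 := hidx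
      rcases hcard with h | h
      · have := (Nat.card_eq_one_iff_unique.1 h).1
        exact fun y z => Subsingleton.elim _ _
      · have : IsCyclic ((S : Subgroup (J3 F ω)) ⧸ C) := isCyclic_of_prime_card h
        exact (IsCyclic.isMulCommutative (α := (S : Subgroup (J3 F ω)) ⧸ C)).is_comm.comm
    intro y z
    rw [← QuotientGroup.eq_one_iff]
    have h1 := hcq (QuotientGroup.mk y) (QuotientGroup.mk z)
    calc ((y * z * y⁻¹ * z⁻¹ : (S : Subgroup (J3 F ω))) : (S : Subgroup (J3 F ω)) ⧸ C)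
        = (QuotientGroup.mk y * QuotientGroup.mk z) * (QuotientGroup.mk y)⁻¹ * (QuotientGroup.mk z)⁻¹ := rfl
      _ = 1 := by rw [h1]; group
  have h1 := (hmem _).1 (hcomm ⟨_, hD (1, 0)⟩ ⟨_, hD (0, 2)⟩)
  have h2 : (pr (G.d (1, 0)) * pr (G.d (0, 2)) * (pr (G.d (1, 0)))⁻¹ * (pr (G.d (0, 2)))⁻¹ : J3 F ω) * x =
      x * (pr (G.d (1, 0)) * pr (G.d (0, 2)) * (pr (G.d (1, 0)))⁻¹ * (pr (G.d (0, 2)))⁻¹) := congrArg Subtype.val h1
  have h3 : (pr (G.d (1, 0)) * pr (G.d (0, 2)) * (pr (G.d (1, 0)))⁻¹ * (pr (G.d (0, 2)))⁻¹ : J3 F ω) =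
      pr G.e * pr (G.a (2, 1)) := by
    rw [← map_mul, pr_dd H G]
    simp only [map_mul]
    group
  rw [h3] at h2
  have h4 : (pr (G.a (2, 1)) : J3 F ω) * x = x * pr (G.a (2, 1)) := by
    rw [hxe]
    exact pr_comm hF H G (2, 1) k a w
  apply not_comm_e hF H G (k := k) (a := a) (w := w) (by rw [← hxe]; exact h9')
  rw [← hxe]
  have h5 : (pr G.e * x) * pr (G.a (2, 1)) = (x * pr G.e) * (pr (G.a (2, 1)) : J3 F ω) := by
    rw [mul_assoc, ← h4, ← mul_assoc, h2, mul_assoc]
  exact (mul_right_cancel h5).symm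

/-- **the centralizer of an element of order nine**, in the model -/
theorem card_cent_model (hF : Fintype.card F = 4) (hω : ω ^ 2 + ω + 1 = 0) (H : Good ω) (G : Gens F ω)
    {x : J3 F ω} (h9 : orderOf x = 9) : Nat.card (centralizer ({x} : Set (J3 F ω))) ≤ 27 := by
  have h3p : Fact (Nat.Prime 3) := ⟨Nat.prime_three⟩
  have hI : IsoJ3 (J3 F ω) := ⟨F, inferInstance, inferInstance, ω, hF, hω, ⟨MulEquiv.refl _⟩⟩
  obtain ⟨S, hS⟩ := exists_S hF H G
  obtain ⟨hcard, hM, -, -⟩ := CpAutJThree.base hI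
  have hfin : Finite (J3 F ω) := Nat.finite_of_card_ne_zero (by rw [hcard]; norm_num)
  have hno : ∀ p : ℕ, p.Prime → p ∣ Nat.card ↥(centralizer ({x} : Set (J3 F ω))) →
      ∃ y : J3 F ω, orderOf y = p ∧ x * y = y * x := by
    intro p hp hd
    have : Fact p.Prime := ⟨hp⟩
    obtain ⟨y, hy⟩ := exists_prime_orderOf_dvd_card' p hd
    exact ⟨y, by rw [← hy]; exact Subgroup.orderOf_coe y, (mem_centralizer_singleton_iff.1 y.2).symm⟩
  have hdv : ∀ {y : J3 F ω} {m : ℕ}, Nat.card ↥(centralizer ({y} : Set (J3 F ω))) = m → x * y = y * x → 9 ∣ m := by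
    intro y m hm hxy
    rw [← hm, ← h9]
    have := _root_.orderOf_dvd_natCard (⟨x, mem_centralizer_singleton_iff.2 hxy⟩ : ↥(centralizer ({y} : Set (J3 F ω))))
    rwa [Subgroup.orderOf_mk] at this
  have h17 : ¬ 17 ∣ Nat.card ↥(centralizer ({x} : Set (J3 F ω))) := by
    intro hd
    obtain ⟨y, hy, hxy⟩ := hno 17 (by norm_num) hd
    have := hdv (H898.J3Cent.seventeen hI hy).1 hxy
    omega
  have h19 : ¬ 19 ∣ Nat.card ↥(centralizer ({x} : Set (J3 F ω))) := by
    intro hd
    obtain ⟨y, hy, hxy⟩ := hno 19 (by norm_num) hd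
    have := hdv (H898.J3Cent.card_nineteen hI hy) hxy
    omega
  have h2 : Odd (Nat.card ↥(centralizer ({x} : Set (J3 F ω)))) := by
    by_contra hcon
    rw [Nat.not_odd_iff_even, even_iff_two_dvd] at hcon
    obtain ⟨y, hy, hxy⟩ := hno 2 Nat.prime_two hcon
    have := hdv (hM y hy).2.1 hxy
    omega
  have h5 : ¬ 5 ∣ Nat.card ↥(centralizer ({x} : Set (J3 F ω))) := by
    intro hd
    obtain ⟨y, hy, hxy⟩ := hno 5 (by norm_num) hd
    have h3 : orderOf (x ^ 3) = 3 := by rw [orderOf_pow, h9]; norm_num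
    obtain ⟨t, ht, htx⟩ := H495.Wf.exists_inv_of_five hI h3 hy ((show Commute x y from hxy).pow_left 3).eq
    exact no_inv_nine hF hω H G h9 ht htx
  have hdvd : Nat.card ↥(centralizer ({x} : Set (J3 F ω))) ∣ 3 ^ 5 :=
    H500.NB.dvd_five (hcard ▸ card_subgroup_dvd_card _) h2 h5 h17 h19
  obtain ⟨j, -, hj⟩ := (Nat.dvd_prime_pow Nat.prime_three).1 hdvd
  have hP : IsPGroup 3 (centralizer ({x} : Set (J3 F ω))) := IsPGroup.of_card hj
  obtain ⟨Q, hQ⟩ := hP.exists_le_sylow
  obtain ⟨g, hg⟩ := MulAction.exists_smul_eq (J3 F ω) Q S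
  have hconj : ∀ y : J3 F ω, orderOf (g * y * g⁻¹) = orderOf y := fun y =>
    orderOf_injective (MulAut.conj g).toMonoidHom (MulAut.conj g).injective y
  have hS5 : Nat.card (S : Subgroup (J3 F ω)) = 243 := by
    have h1 := S.card_eq_multiplicity
    rw [hcard, show (50232960 : ℕ) = 3 ^ 5 * 206720 by norm_num, Nat.factorization_mul (by norm_num) (by norm_num),
      Finsupp.add_apply, Nat.Prime.factorization_pow Nat.prime_three,
      Nat.factorization_eq_zero_of_not_dvd (n := 206720) (by norm_num)] at h1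
    simpa only [_root_.Finsupp.single_eq_same, _root_.add_zero, _root_.Nat.reducePow] using h1
  have hmem : ∀ y ∈ centralizer ({x} : Set (J3 F ω)), g * y * g⁻¹ ∈ (S : Subgroup (J3 F ω)) := by
    intro y hy
    rw [← hg, Sylow.coe_subgroup_smul]
    exact Subgroup.smul_mem_pointwise_smul y (MulAut.conj g) _ (hQ hy)
  have hx : x ∈ centralizer ({x} : Set (J3 F ω)) := mem_centralizer_singleton_iff.2 rfl
  refine le_trans ?_ (card_cent_S hF H G S hS hS5 ⟨g * x * g⁻¹, hmem x hx⟩ (by
    rw [Subgroup.orderOf_mk, hconj]; exact h9))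
  refine Nat.card_le_card_of_injective (fun y => ⟨⟨g * y * g⁻¹, hmem _ y.2⟩, ?_⟩) ?_
  · rw [mem_centralizer_singleton_iff]
    apply Subtype.ext
    have h1 := mem_centralizer_singleton_iff.1 y.2
    change g * (y : J3 F ω) * g⁻¹ * (g * x * g⁻¹) = g * x * g⁻¹ * (g * y * g⁻¹)
    calc g * (y : J3 F ω) * g⁻¹ * (g * x * g⁻¹) = g * (y * x) * g⁻¹ := by group
      _ = g * (x * y) * g⁻¹ := by rw [h1]
      _ = _ := by group
  · intro y z h
    apply Subtype.ext
    have h1 : g * (y : J3 F ω) * g⁻¹ = g * z * g⁻¹ := congrArg (fun u => ((u.1 : (S : Subgroup (J3 F ω))) : J3 F ω)) h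
    exact mul_left_cancel (mul_right_cancel h1)

end Nine

/-- **the centralizer of an element of order nine of `J₃`** -/
theorem card_cent_nine {K : Type*} [Group K] (h : IsoJ3 K) {x : K} (h9 : orderOf x = 9) :
    Nat.card (centralizer ({x} : Set K)) ≤ 27 := by
  obtain ⟨F, _, _, ω, hF, hω, ⟨e⟩⟩ := h
  have H := good_of_card hF hω
  obtain ⟨G⟩ := exists_gens hF H
  have hI : IsoJ3 (J3 F ω) := ⟨F, inferInstance, inferInstance, ω, hF, hω, ⟨MulEquiv.refl _⟩⟩
  have hfin : Finite (J3 F ω) := Nat.finite_of_card_ne_zero (by rw [(CpAutJThree.base hI).1]; norm_num)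
  refine le_trans ?_ (card_cent_model hF hω H G (x := e x) (by rw [MulEquiv.orderOf_eq, h9]))
  refine Nat.card_le_card_of_injective (fun y => ⟨e y, ?_⟩) ?_
  · rw [mem_centralizer_singleton_iff, ← map_mul, ← map_mul, mem_centralizer_singleton_iff.1 y.2]
  · intro y z h
    exact Subtype.ext (e.injective (congrArg Subtype.val h))

/-- the centralizers of the elements of prime order -/
theorem card_cent_prime {K : Type} [Group K] [Finite K] (h : IsoJ3 K) {x : K} (hx : (orderOf x).Prime) :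
    Nat.card (centralizer ({x} : Set K)) ≤ 2430 := by
  obtain ⟨hcard, hM, hone, -⟩ := CpAutJThree.base h
  have hdvd : orderOf x ∣ 2 ^ 7 * (3 ^ 5 * (5 * (17 * 19))) := by
    have h1 := _root_.orderOf_dvd_natCard x
    rw [hcard] at h1
    exact h1
  rcases (hx.dvd_mul).1 hdvd with h1 | h1
  · have h2 := (Nat.prime_dvd_prime_iff_eq hx Nat.prime_two).1 (hx.dvd_of_dvd_pow h1)
    rw [(hM x h2).2.1]
    norm_num
  rcases (hx.dvd_mul).1 h1 with h1 | h1
  · have h2 := (Nat.prime_dvd_prime_iff_eq hx Nat.prime_three).1 (hx.dvd_of_dvd_pow h1)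
    rcases H495.Wf.j3_cases h h2 with ⟨t, ht, htx⟩ | h3
    · obtain ⟨c0, hc0, ⟨s, hs, hsc⟩, hc0c⟩ := CpAutJThree.exc h
      obtain ⟨g, hg⟩ := CpAutJThree.conj_three hM hone hc0 h2 hs ht hsc htx
      rw [← CpAutJThree.card_centralizer_conj g hg, hc0c]
      norm_num
    · exact h3.trans (by norm_num)
  rcases (hx.dvd_mul).1 h1 with h1 | h1
  · have h2 := (Nat.prime_dvd_prime_iff_eq hx (by norm_num)).1 h1
    have h3 := H715.Fpr.J3.cn5 h (R := zpowers x) (by rw [Nat.card_zpowers, h2])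
    rw [H898.J3Cent.centralizer_zpowers] at h3
    omega
  rcases (hx.dvd_mul).1 h1 with h1 | h1
  · have h2 := (Nat.prime_dvd_prime_iff_eq hx (by norm_num)).1 h1
    rw [(H898.J3Cent.seventeen h h2).1]
    norm_num
  · have h2 := (Nat.prime_dvd_prime_iff_eq hx (by norm_num)).1 h1
    rw [H898.J3Cent.card_nineteen h h2]
    norm_num

end PartB

section PartC

open Subgroup Cfsg.Agent.OrdDiv Cfsg.Agent.H257.El Cfsg.Agent.H424.Spr Cfsg.Agent.H609.TH

universe u

section Gen

variable {T : Type u} [Group T] [Finite T]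

theorem norm_of_mem {s v : T} (h : v * s * v⁻¹ ∈ zpowers s) : v ∈ normalizer ((zpowers s : Subgroup T) : Set T) := by
  have h6 : (zpowers s).map (MulAut.conj v).toMonoidHom = zpowers s := by
    refine eq_of_le_of_card_ge ?_ (by rw [card_map_of_injective (MulAut.conj v).injective])
    rw [MonoidHom.map_zpowers, zpowers_le]
    exact h
  rw [mem_normalizer_iff]
  intro z
  constructor
  · intro hz
    rw [← h6]
    exact ⟨z, hz, rfl⟩
  · intro hz
    rw [← h6] at hz
    obtain ⟨w, hw, hwz⟩ := hz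
    have : w = z := (MulAut.conj v).injective hwz
    rwa [← this]

/-- an automorphism which leaves invariant no simple group at the top -/
theorem goodA_of_no_inv [IsSimpleGroup T] {r n : ℕ} {l : List (ℕ × ℕ)} (tab : OrderTable.{u}) (known : Known.{u})
    (hn : Nat.card T = n) (hv : valid l n = true) (hr : r.Prime) (h2 : ¬ r ^ 2 ∣ n) (hrn : r ∣ n) (hne : n ≠ r)
    (hfree : Free r T) (α : MulAut T) (hα : α ≠ 1)
    (hno : ∀ (s : T) (K N : Subgroup T), orderOf s = r → K ≠ ⊤ → _root_.Cfsg.Agent.H609.TH.IsTop T n l r s K N → (∀ y ∈ N, α y ∈ N) → False) :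
    GoodA α := by
  have hr' : Fact r.Prime := ⟨hr⟩
  have h2' : ¬ r ^ 2 ∣ Nat.card T := by rwa [hn]
  by_contra hbad
  have key : ∀ s : T, orderOf s = r → α s ∈ zpowers s := by
    intro s hs
    by_contra hns
    apply hbad
    refine ⟨s, fun K hsK hK => ?_⟩
    by_contra hKt
    rcases cases tab known hn hv hr h2 hfree hs hKt hsK with h | ⟨N, hN⟩
    · exact hns (mem_of_norm hr h2' (N := zpowers s) (by rw [Nat.card_zpowers, hs])
        (by rw [MulEquiv.orderOf_eq, hs]) (h (hK s hsK)))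
    · refine hno s K N hs hKt hN ?_
      have hsim := hN.simple
      have hrN : r ∣ Nat.card N := by
        have := Subgroup.orderOf_dvd_natCard _ hN.mem
        rwa [hs] at this
      have hs1 : (⟨s, hN.mem⟩ : N) ≠ 1 := by
        intro h
        have h1 : s = 1 := congrArg Subtype.val h
        rw [h1, orderOf_one] at hs
        exact hr.one_lt.ne hs
      have hnc : normalClosure ({(⟨s, hN.mem⟩ : N)} : Set N) = ⊤ := by
        rcases (normalClosure_normal (s := ({(⟨s, hN.mem⟩ : N)} : Set N))).eq_bot_or_eq_top with h | h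
        · exfalso
          apply hs1
          have h1 : (⟨s, hN.mem⟩ : N) ∈ normalClosure ({(⟨s, hN.mem⟩ : N)} : Set N) :=
            subset_normalClosure (Set.mem_singleton _)
          rwa [h, mem_bot] at h1
        · exact h
      have hle : normalClosure ({(⟨s, hN.mem⟩ : N)} : Set N) ≤ (N.comap α.toMonoidHom).subgroupOf N := by
        unfold normalClosure
        rw [closure_le]
        intro y hy
        obtain ⟨a, ha, hay⟩ := Group.mem_conjugatesOfSet_iff.1 hy
        rw [Set.mem_singleton_iff] at ha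
        subst ha
        obtain ⟨c, hc⟩ := isConj_iff.1 hay
        have hyo : orderOf (y : T) = r := by
          rw [Subgroup.orderOf_coe, ← hc]
          refine (orderOf_injective (MulAut.conj c).toMonoidHom (MulAut.conj c).injective _).trans ?_
          rw [Subgroup.orderOf_mk, hs]
        rw [SetLike.mem_coe, mem_subgroupOf, mem_comap]
        refine mem_of_norm hr h2' hrN (z := α (y : T)) (by rw [MulEquiv.orderOf_eq, hyo]) (hN.le_norm ?_)
        exact hK _ (hN.le y.2)
      intro y hy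
      have h1 : (⟨y, hy⟩ : N) ∈ (N.comap α.toMonoidHom).subgroupOf N := hle (by rw [hnc]; exact mem_top _)
      rw [mem_subgroupOf] at h1
      exact h1
  -- the intersection of the normalizers
  set D : Subgroup T := ⨅ s : {s : T // orderOf s = r}, normalizer ((zpowers s.1 : Subgroup T) : Set T) with hD
  have hmem : ∀ v : T, v ∈ D ↔ ∀ s : T, orderOf s = r → v ∈ normalizer ((zpowers s : Subgroup T) : Set T) := by
    intro v
    rw [hD, mem_iInf]
    exact ⟨fun h s hs => h ⟨s, hs⟩, fun h s => h s.1 s.2⟩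
  have hDn : D.Normal := by
    constructor
    intro v hv g
    rw [hmem] at hv ⊢
    intro s hs
    apply norm_of_mem
    have h1 := hv (g⁻¹ * s * g) (by
      rw [← hs]
      have := orderOf_injective (MulAut.conj g⁻¹).toMonoidHom (MulAut.conj g⁻¹).injective s
      rw [← this]
      change _ = orderOf (g⁻¹ * s * g⁻¹⁻¹)
      rw [inv_inv])
    obtain ⟨k, hk⟩ := mem_zpowers_iff.1 ((mem_normalizer_iff.1 h1 _).1 (mem_zpowers _))
    refine mem_zpowers_iff.2 ⟨k, ?_⟩
    have h3 : (g⁻¹ * s * g) ^ k = g⁻¹ * s ^ k * g := by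
      have := conj_zpow (i := k) (a := g⁻¹) (b := s)
      rw [inv_inv] at this
      exact this
    calc s ^ k = g * (g⁻¹ * s ^ k * g) * g⁻¹ := by group
      _ = g * (v * (g⁻¹ * s * g) * v⁻¹) * g⁻¹ := by rw [← h3, hk]
      _ = g * v * g⁻¹ * s * (g * v * g⁻¹)⁻¹ := by group
  have hDb : D = ⊥ := by
    rcases hDn.eq_bot_or_eq_top with h | h
    · exact h
    · exfalso
      obtain ⟨s, hs⟩ := exists_prime_orderOf_dvd_card' (G := T) r (by rw [hn]; exact hrn)
      have h1 : normalizer ((zpowers s : Subgroup T) : Set T) = ⊤ := by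
        rw [eq_top_iff]
        intro v _
        exact (hmem v).1 (by rw [h]; exact mem_top _) s hs
      rcases (normalizer_eq_top_iff.1 h1).eq_bot_or_eq_top with h3 | h3
      · have h4 : Nat.card (zpowers s) = 1 := by rw [h3, card_bot]
        rw [Nat.card_zpowers, hs] at h4
        exact hr.one_lt.ne' h4
      · have h4 : Nat.card (zpowers s) = n := by rw [h3, card_top, hn]
        rw [Nat.card_zpowers, hs] at h4
        exact hne h4.symm
  apply hα
  ext u
  have hu : u⁻¹ * α u ∈ D := by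
    rw [hmem]
    intro s hs
    apply norm_of_mem
    obtain ⟨k, hk⟩ := mem_zpowers_iff.1 (key (u * s * u⁻¹) (by
      rw [← hs]
      exact orderOf_injective (MulAut.conj u).toMonoidHom (MulAut.conj u).injective s))
    have h1 : zpowers (α s) = zpowers s := by
      refine eq_of_le_of_card_ge ?_ ?_
      · rw [zpowers_le]; exact key s hs
      · rw [Nat.card_zpowers, Nat.card_zpowers, MulEquiv.orderOf_eq]
    obtain ⟨j, hj⟩ := mem_zpowers_iff.1 (show s ∈ zpowers (α s) by rw [h1]; exact mem_zpowers s)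
    have h3 : (u⁻¹ * α u) * α s * (u⁻¹ * α u)⁻¹ = s ^ k := by
      rw [conj_zpow, map_mul, map_mul, map_inv] at hk
      calc (u⁻¹ * α u) * α s * (u⁻¹ * α u)⁻¹ = u⁻¹ * (α u * α s * (α u)⁻¹) * u := by group
        _ = u⁻¹ * (u * s ^ k * u⁻¹) * u := by rw [← hk]
        _ = s ^ k := by group
    refine mem_zpowers_iff.2 ⟨k * j, ?_⟩
    rw [zpow_mul, ← h3, conj_zpow, hj]
  rw [hDb, mem_bot] at hu
  exact (inv_mul_eq_one.1 hu).symm

end Gen

section Outer

open Cfsg Cfsg.Agent.J2Type.Model Cfsg.Agent.J2Type.CStruct Cfsg.Agent.J3Type.OneClass Cfsg.Agent.H300.OuterJThree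

/-- **an outer automorphism of `J₃` does not fix two commuting elements of orders two and five** -/
theorem no_pair {X : Type u} [Group X] (h : Spor.IsoJ3 X) {x : MulAut X} (hout : ¬ ∃ g, x = MulAut.conj g) {t w : X}
    (ht2 : orderOf t = 2) (hxt : x t = t) (h5 : orderOf w = 5) (hw : x w = w) (htw : w * t = t * w) : False := by
  obtain ⟨-, z, Q, v, ρ, n, u, F⟩ := KFacts.J3.exists_facts h
  have hfin : Finite X := Nat.finite_of_card_ne_zero (by rw [F.card_K]; norm_num)
  obtain ⟨g, hg⟩ := F.one t (fun h2 => by rw [h2, orderOf_one] at ht2; omega)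
    (by rw [← pow_two, ← ht2, pow_orderOf_eq_one])
  have hβ : ∀ y, (MulAut.conj g⁻¹ * x * (MulAut.conj g⁻¹)⁻¹) y = g⁻¹ * x (g * y * g⁻¹) * g := by
    intro y
    rw [← map_inv, inv_inv]
    change g⁻¹ * x (g * y * g⁻¹) * g⁻¹⁻¹ = _
    rw [inv_inv]
  refine aux F.card_C F.model (n₀ := n) ?_ ?_ F.gen (α := MulAut.conj g⁻¹ * x * (MulAut.conj g⁻¹)⁻¹) ?_ ?_
    (w := g⁻¹ * w * g) ?_ ?_ ?_
  · rw [F.nz]
    exact ⟨v 0, F.model.v_mem 0, rfl⟩
  · rw [F.nz]
    intro h1
    apply zv_ne_z F.model 0 0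
    rw [zp_zero, one_mul]
    exact Subtype.ext h1
  · rw [hβ, hg, hxt, ← hg]; group
  · rintro ⟨k, hk⟩
    apply hout
    refine ⟨g * k * g⁻¹, ?_⟩
    rw [map_mul, map_mul, ← hk, map_inv]
    group
  · rw [hβ]
    have h6 : g * (g⁻¹ * w * g) * g⁻¹ = w := by group
    rw [h6, hw]
  · have h6 : z = g⁻¹ * t * g := by rw [← hg]; group
    rw [h6]
    calc g⁻¹ * w * g * (g⁻¹ * t * g) = g⁻¹ * (w * t) * g := by group
      _ = g⁻¹ * (t * w) * g := by rw [htw]
      _ = _ := by group
  · rw [← h5]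
    have h6 : g⁻¹ * w * g = MulAut.conj g⁻¹ w := by
      rw [MulAut.conj_apply, inv_inv]
    rw [h6]
    exact MulEquiv.orderOf_eq (MulAut.conj g⁻¹) w

/-- **an outer automorphism of `J₃` leaves no subgroup `L₂(19)` invariant** -/
theorem not_inv {X : Type u} [Group X] [Finite X] (h : Spor.IsoJ3 X) {α : MulAut X} (hout : ∀ g, α ≠ MulAut.conj g)
    {s : X} {N : Subgroup X} (hN : IsLTwo 19 s N) (hinv : ∀ y ∈ N, α y ∈ N) : False := by
  obtain ⟨-, F, _, _, hF, ⟨e⟩⟩ := hN
  let f : N →* N := (α.toMonoidHom.comp N.subtype).codRestrict N fun y => hinv y y.2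
  have hf : Function.Injective f := by
    intro a b hab
    have h1 : α (a : X) = α (b : X) := congrArg Subtype.val hab
    exact Subtype.ext (α.injective h1)
  let β : N ≃* N := MulEquiv.ofBijective f (Finite.injective_iff_bijective.1 hf)
  have hβ : ∀ y : N, ((β y : N) : X) = α (y : X) := fun y => rfl
  obtain ⟨n, t, w, ht, hw, hwt, h1, h2⟩ := exists_pair hF ((e.symm.trans β).trans e)
  have h3 : ∀ y, ((e.symm.trans β).trans e) y = n * y * n⁻¹ →
      α (e.symm y : N) = (e.symm n : N) * (e.symm y : N) * ((e.symm n : N) : X)⁻¹ := by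
    intro y hy
    have h4 : β (e.symm y) = e.symm n * e.symm y * (e.symm n)⁻¹ := by
      apply e.injective
      rw [map_mul, map_mul, map_inv, e.apply_symm_apply, e.apply_symm_apply, ← hy]
      rfl
    rw [← hβ, h4]
    rfl
  refine no_pair h (x := MulAut.conj ((e.symm n : N) : X)⁻¹ * α) ?_ (t := (e.symm t : N)) (w := (e.symm w : N))
    ?_ ?_ ?_ ?_ ?_
  · rintro ⟨g, hg⟩
    apply hout (((e.symm n : N) : X) * g)
    rw [map_mul, ← hg, ← mul_assoc, ← map_mul, mul_inv_cancel, map_one, one_mul]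
  · rw [Subgroup.orderOf_coe, MulEquiv.orderOf_eq, ht]
  · rw [MulAut.mul_apply, MulAut.conj_apply, h3 t h1]
    group
  · rw [Subgroup.orderOf_coe, MulEquiv.orderOf_eq, hw]
  · rw [MulAut.mul_apply, MulAut.conj_apply, h3 w h2]
    group
  · rw [← Subgroup.coe_mul, ← Subgroup.coe_mul, ← map_mul, ← map_mul, hwt]

end Outer

section Main

open Cfsg

/-- the primes -/
def lJ : List (ℕ × ℕ) := [(2, 7), (3, 5), (5, 1), (17, 1), (19, 1)]

theorem chkJ : chkN 50232960 lJ 19 = true := by decide +kernel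
theorem okJ : okAll lJ 19 = true := by decide +kernel
theorem survJ : ((surv 50232960 lJ 19 []).all fun g => g = .psl 2 19) = true := by decide +kernel

theorem survJ' : ∀ g ∈ surv 50232960 lJ 19 [], g = Grp.psl 2 19 := by
  intro g hg
  have h1 := List.all_eq_true.1 survJ g hg
  simpa using h1

/-- the row `J₃`, from the order table -/
theorem spr_j3_of (tab : OrderTable.{0}) (known : Known.{0}) {T : Type} [Group T] [Finite T] (h : Spor.IsoJ3 T) :
    Spr T := by
  obtain ⟨hs, hn, hM⟩ := H898.J3Cent.base h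
  have hr : Nat.Prime 19 := by norm_num
  obtain ⟨hv, hr3, hrn, h2, hne⟩ := of_chkN chkJ
  have hsc : Cfsg.Agent.H537.Cop.SC 19 T := fun x hx => H898.J3Cent.card_nineteen h hx
  have hfree : Free 19 T := free_of_sc hn hv hr hsc okJ
  have hna : ∃ x y : T, x * y ≠ y * x := exists_not_comm hn (by norm_num)
  refine spr_of_parts hna (fun g hg => goodI_of_goodA ?_) (fun a ha hout => ?_)
  · refine goodA_of_ltwo tab known hn hv hr hr3 hrn h2 hfree hsc survJ' (c := 3) (fun a t ha _ => ?_) _ ?_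
    · exact (card_cent_nine h (x := a) (by rw [ha])).trans (by norm_num)
    · have h1 : Nat.card {x : T // MulAut.conj g x = x} ≤ 2430 := by
        refine le_trans (le_of_eq ?_) (card_cent_prime h hg)
        refine Nat.card_congr (Equiv.subtypeEquivRight fun x => ?_)
        rw [mem_centralizer_singleton_iff, MulAut.conj_apply, mul_inv_eq_iff_eq_mul]
        exact eq_comm
      refine lt_of_le_of_lt (Nat.mul_le_mul_left _ h1) (by norm_num)
  · refine goodA_of_no_inv tab known hn hv hr h2 hrn hne hfree a (fun h1 => hout 1 (by rw [h1, map_one])) ?_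
    intro s K N hso hK hN hinv
    obtain ⟨g, hg, hgr, -⟩ := hN.real
    rw [survJ' g hg] at hgr
    exact not_inv h hout (s := s) ⟨hN.mem, hgr⟩ hinv

end Main

end PartC

/-- **S3938, the row `J₃`.** -/
theorem spr_j3 (known : Cfsg.Agent.H257.El.Known.{0}) {T : Type} [Group T] [Finite T] (h : Cfsg.Spor.IsoJ3 T) :
    Cfsg.Agent.H424.Spr.Spr T :=
  spr_j3_of Cfsg.Agent.OrdDiv.table known h

end Cfsg.Agent.H299.SprJ3

private theorem dce_0952c005db9d : _root_.True := by
  try have : _root_.True := by simp only [_root_.Cfsg.Agent.H299.SprJ3.torS.eq_1]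
  try have : _root_.True := by simp only [_root_.Cfsg.Agent.H299.SprJ3.tor.eq_1]
  exact _root_.True.intro
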