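import Cfsg.Agent.OddHalf.Small.Sp_m3
import Cfsg.Agent.H245.SuzInv
import Cfsg.Agent.Sigma.Symp
import Cfsg.Agent.S0814
import Cfsg.Agent.S0245
import Cfsg.Agent.S0246
import Cfsg.Agent.S0270
import Cfsg.Agent.SigZeroU5.Rows
import Cfsg.Agent.LieClassical.FieldTransfer
import Cfsg.Agent.FastGrp
import Cfsg.Agent.Prune
set_option linter.all false
prune_inst 0x7f00000000000000000000000000000000000000000000000000000000000000000000000000000000000000000000000000000000000000000000000000000000000000000000000000000000000000003fffffffffffffffffffffffffffbeffbdffffffff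
open scoped Cfsg.Agent.FastGrp

-- part: H299/SpLoc
section
/-!
# Elementary abelian 3-subgroups of maximal rank of symplectic groups in characteristic two

`eq_bot` : if `A` is an elementary abelian `3`-subgroup of order `3 ^ n` of `Sp_{2m}(F)`, `F` finite of characteristic
two, `|F| ^ (2 m) < 2 * 4 ^ n`, then `A` normalizes no nontrivial 2-subgroup.
-/

set_option autoImplicit false

namespace Cfsg.Agent.H299.SpLoc

open Subgroup Cfsg Cfsg.Agent.OddHalf.Small.Sp Cfsg.Agent.ClassicalGeometry.SympBasic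
open scoped Matrix

variable {F : Type*} [Field F] {m : ℕ}

local notation "VV" => (Fin m ⊕ Fin m → F)
local notation "GG" => Matrix.symplecticGroup (Fin m) F

theorem rep_inv_rep (g : GG) (v : VV) : rep m F g⁻¹ (rep m F g v) = v := by
  rw [← rep_mul, inv_mul_cancel, map_one]; rfl

theorem rep_rep_inv (g : GG) (v : VV) : rep m F g (rep m F g⁻¹ v) = v := by
  rw [← rep_mul, mul_inv_cancel, map_one]; rfl

/-- The action on the multiplicative group of vectors. -/
def aut (m : ℕ) (F : Type*) [Field F] : Matrix.symplecticGroup (Fin m) F →* MulAut (Multiplicative (Fin m ⊕ Fin m → F)) where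
  toFun g := AddEquiv.toMultiplicative
    { toFun := rep m F g
      invFun := rep m F g⁻¹
      left_inv := rep_inv_rep g
      right_inv := rep_rep_inv g
      map_add' := fun x y => map_add _ x y }
  map_one' := by
    ext v : 1
    show Multiplicative.ofAdd (rep m F 1 v.toAdd) = v
    rw [map_one]; rfl
  map_mul' a b := by
    ext v : 1
    show Multiplicative.ofAdd (rep m F (a * b) v.toAdd) = Multiplicative.ofAdd (rep m F a (rep m F b v.toAdd))
    rw [rep_mul]

theorem aut_injective : Function.Injective (aut m F) := by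
  intro a b h
  apply rep_injective
  ext v : 1
  have := congrArg (fun f : MulAut (Multiplicative (Fin m ⊕ Fin m → F)) => (f (Multiplicative.ofAdd v)).toAdd) h
  exact this

/-- fixed vectors -/
def CC (Q : Subgroup GG) : AddSubgroup VV where
  carrier := {v | ∀ q ∈ Q, rep m F q v = v}
  zero_mem' := fun q _ => map_zero _
  add_mem' := fun {x y} hx hy q hq => by rw [map_add, hx q hq, hy q hq]
  neg_mem' := fun {x} hx q hq => by rw [map_neg, hx q hq]

/-- commutators -/
def DD (Q : Subgroup GG) : AddSubgroup VV := AddSubgroup.closure {x | ∃ q ∈ Q, ∃ v : VV, rep m F q v - v = x}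

theorem form_zero {Q : Subgroup GG} {r s : VV} (hr : r ∈ CC Q) (hs : s ∈ DD Q) : sympForm m F r s = 0 := by
  unfold DD at hs
  induction hs using AddSubgroup.closure_induction with
  | mem x hx =>
    obtain ⟨q, hq, v, rfl⟩ := hx
    rw [sympForm_sub_right]
    nth_rewrite 1 [← hr q hq]
    rw [form_rep, sub_self]
  | zero => exact sympForm_zero_right r
  | add x y _ _ hx hy => rw [sympForm_add_right, hx, hy, add_zero]
  | neg x _ hx => rw [sympForm_neg_right, hx, neg_zero]

theorem conj_mem {Q : Subgroup GG} {a : GG} (ha : a ∈ normalizer (Q : Set GG)) {q : GG} (hq : q ∈ Q) :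
    a⁻¹ * q * a ∈ Q := by
  have h1 := (mem_normalizer_iff.1 (inv_mem ha) q).1 hq
  rwa [inv_inv] at h1

theorem CC_inv {Q : Subgroup GG} {a : GG} (ha : a ∈ normalizer (Q : Set GG)) {r : VV} (hr : r ∈ CC Q) :
    rep m F a r ∈ CC Q := by
  intro q hq
  have h1 := hr _ (conj_mem ha hq)
  have h2 : rep m F a (rep m F (a⁻¹ * q * a) r) = rep m F q (rep m F a r) := by
    rw [← rep_mul, ← rep_mul]
    congr 1
    group
  rw [← h2, h1]

theorem DD_inv {Q : Subgroup GG} {a : GG} (ha : a ∈ normalizer (Q : Set GG)) {r : VV} (hr : r ∈ DD Q) :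
    rep m F a r ∈ DD Q := by
  unfold DD at hr ⊢
  induction hr using AddSubgroup.closure_induction with
  | mem x hx =>
    obtain ⟨q, hq, v, rfl⟩ := hx
    refine AddSubgroup.subset_closure ⟨a * q * a⁻¹, (mem_normalizer_iff.1 ha q).1 hq, rep m F a v, ?_⟩
    rw [map_sub, ← rep_mul]
    congr 1
    rw [← rep_mul]
    congr 1
    group
  | zero => rw [map_zero]; exact zero_mem _
  | add x y _ _ hx hy => rw [map_add]; exact add_mem hx hy
  | neg x _ hx => rw [map_neg]; exact neg_mem hx

/-- the radical -/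
def RR (Q : Subgroup GG) : AddSubgroup VV := CC Q ⊓ DD Q

theorem RR_ne_bot [Finite F] [CharP F 2] {Q : Subgroup GG} (hQ : IsPGroup 2 Q) (hQ1 : Q ≠ ⊥) :
    ∃ r ∈ RR Q, r ≠ 0 := by
  obtain ⟨q, hq, hq1⟩ := (Subgroup.bot_or_exists_ne_one Q).resolve_left hQ1
  have hfin : Finite GG :=
    Finite.of_injective (fun g => (g : Matrix (Fin m ⊕ Fin m) (Fin m ⊕ Fin m) F)) Subtype.val_injective
  have hD1 : ∃ v : VV, rep m F q v - v ≠ 0 := by
    by_contra hcon
    push Not at hcon
    apply hq1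
    apply rep_injective
    ext v : 1
    rw [map_one]
    exact sub_eq_zero.1 (hcon v)
  letI act : MulAction Q (DD Q) :=
    { smul := fun a x => ⟨rep m F a x, DD_inv (le_normalizer a.2) x.2⟩
      one_smul := fun x => Subtype.ext (by
        show rep m F 1 x = x
        rw [map_one]; rfl)
      mul_smul := fun a b x => Subtype.ext (rep_mul _ _ _) }
  have h2 : 2 ∣ Nat.card (DD Q) := by
    obtain ⟨v, hv⟩ := hD1
    have h3 : addOrderOf (⟨rep m F q v - v, AddSubgroup.subset_closure ⟨q, hq, v, rfl⟩⟩ : DD Q) = 2 := by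
      refine addOrderOf_eq_prime ?_ fun h => hv (congrArg Subtype.val h)
      apply Subtype.ext
      show 2 • (rep m F q v - v) = 0
      rw [two_nsmul]
      exact add_self_vec _
    rw [← h3]
    exact addOrderOf_dvd_natCard _
  have h0 : (0 : DD Q) ∈ MulAction.fixedPoints Q (DD Q) := by
    intro a
    apply Subtype.ext
    exact map_zero _
  obtain ⟨b, hb, hb0⟩ := hQ.exists_fixed_point_of_prime_dvd_card_of_fixed_point (DD Q) h2 h0
  refine ⟨b, ⟨fun a ha => congrArg Subtype.val (hb ⟨a, ha⟩), b.2⟩, fun h => hb0 (Subtype.ext h.symm)⟩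

/-- **`A` normalizes no nontrivial 2-subgroup.** -/
theorem eq_bot [Finite F] [CharP F 2] {n : ℕ} (hn : Nat.card F ^ (2 * m) < 2 * 4 ^ n) {A Q : Subgroup GG}
    (hA : Cfsg.IsElementaryAbelian 3 A) (hAc : Nat.card A = 3 ^ n) (hQ : IsPGroup 2 Q)
    (hAQ : A ≤ normalizer (Q : Set GG)) : Q = ⊥ := by
  by_contra hQ1
  obtain ⟨r, hr, hr0⟩ := RR_ne_bot hQ hQ1
  have : Fact (Nat.Prime 3) := ⟨Nat.prime_three⟩
  set K : Subgroup (Multiplicative VV) := AddSubgroup.toSubgroup
    { carrier := {u : VV | ∀ r ∈ RR Q, sympForm m F u r = 0}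
      zero_mem' := fun r _ => sympForm_zero_left r
      add_mem' := fun {x y} hx hy r hr => by rw [sympForm_add_left, hx r hr, hy r hr, add_zero]
      neg_mem' := fun {x} hx r hr => by rw [sympForm_neg_left, hx r hr, neg_zero] } with hK
  have mK : ∀ u : VV, Multiplicative.ofAdd u ∈ K ↔ ∀ r ∈ RR Q, sympForm m F u r = 0 := fun u => Iff.rfl
  have hRinv : ∀ a ∈ A, ∀ r ∈ RR Q, rep m F a r ∈ RR Q := fun a ha r hr =>
    ⟨CC_inv (hAQ ha) hr.1, DD_inv (hAQ ha) hr.2⟩
  have hiso : ∀ r ∈ RR Q, ∀ s ∈ RR Q, sympForm m F r s = 0 := fun r hr s hs => form_zero hr.1 hs.2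
  have key : K = ⊤ := by
    refine Cfsg.Agent.SigZeroSuz.Fix.eq_top_of (p := 3) (c := 4) (n := n) (A := A.map (aut m F)) (by norm_num) ?_
      Cfsg.Agent.SigZeroSuz.Fix.c_three ?_ ?_ ?_ ?_ ?_ ?_
    · intro u
      exact add_self_vec (m := m) (F := F) u.toAdd
    · rintro _ ⟨a, ha, rfl⟩ _ ⟨b, hb, rfl⟩
      rw [← map_mul, ← map_mul]
      congr 1
      exact congrArg Subtype.val (hA.1.is_comm.comm ⟨a, ha⟩ ⟨b, hb⟩)
    · rintro _ ⟨a, ha, rfl⟩
      rw [← map_pow, hA.2 a ha, map_one]
    · rw [Subgroup.card_map_of_injective aut_injective, hAc]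
    · have h1 : Nat.card (Multiplicative VV) = Nat.card F ^ (2 * m) := by
        have h2 : Nat.card (Multiplicative VV) = Nat.card VV := rfl
        rw [h2, Nat.card_fun]
        congr 1
        rw [Nat.card_eq_fintype_card, Fintype.card_sum, Fintype.card_fin, two_mul]
      rw [h1]
      exact hn
    · rintro _ ⟨a, ha, rfl⟩ u hu
      change Multiplicative.ofAdd (rep m F a u.toAdd) ∈ K
      rw [mK]
      intro r hr
      have h1 := hRinv a⁻¹ (inv_mem ha) r hr
      have h2 := hu _ h1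
      have h3 := form_rep a u.toAdd (rep m F a⁻¹ r)
      rw [rep_rep_inv] at h3
      rw [h3]
      exact h2
    · rintro _ ⟨a, ha, rfl⟩ hfix u
      change Multiplicative.ofAdd (rep m F a u.toAdd + -u.toAdd) ∈ K
      rw [mK]
      intro r hr
      have h1 : rep m F a r = r := by
        have h2 := hfix (Multiplicative.ofAdd r) ((mK r).2 fun s hs => hiso r hr s hs)
        exact h2
      rw [sympForm_add_left, sympForm_neg_left]
      nth_rewrite 1 [← h1]
      rw [form_rep, add_neg_cancel]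
  apply hr0
  apply eq_zero_of_forall_sympForm_left
  intro w
  have h1 : Multiplicative.ofAdd w ∈ K := by rw [key]; exact Subgroup.mem_top _
  exact (mK w).1 h1 r hr

end Cfsg.Agent.H299.SpLoc
end

-- part: H299/SpSixFacts
section
/-!
# Facts on `Sp₆(2)`

`Facts L` : what is used about `L ≅ Sp₆(2)`.
-/

set_option autoImplicit false

namespace Cfsg.Agent.H299

open Subgroup Cfsg Cfsg.Agent.ClassicalGeometry.SympBasic
open scoped Matrix

universe u

/-- What is used about `L ≅ Sp₆(2)`. -/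
structure Facts (L : Type*) [Group L] : Prop where
  fin : Finite L
  simple : IsSimpleGroup L
  na : ¬ IsMulCommutative L
  inner : ∀ α : MulAut L, ∃ x : L, α = MulAut.conj x
  /-- an elementary abelian subgroup of order 27 -/
  e27 : ∃ A : Subgroup L, IsElementaryAbelian 3 A ∧ Nat.card A = 27
  /-- which normalizes no nontrivial 2-subgroup -/
  noQ : ∀ A Q : Subgroup L, IsElementaryAbelian 3 A → Nat.card A = 27 → IsPGroup 2 Q →
    A ≤ normalizer (Q : Set L) → Q = ⊥
  rk : PRankLE 3 3 L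
  /-- an involution `t` (a transvection) with `Z(C(t)) = ⟨t⟩` -/
  transv : ∃ t : L, t ≠ 1 ∧ t * t = 1 ∧ 5 ∣ Nat.card (centralizer ({t} : Set L)) ∧
    (∀ z : L, z * t = t * z → (∀ c : L, c * t = t * c → z * c = c * z) → z = 1 ∨ z = t) ∧
    ¬ 7 ∣ Nat.card (centralizer ({t} : Set L))
  card : Nat.card L = 1451520
  /-- a four-group -/
  klein : ∃ x y : L, x ≠ 1 ∧ y ≠ 1 ∧ x ≠ y ∧ x * x = 1 ∧ y * y = 1 ∧ x * y = y * x

namespace SpSix

variable {F : Type u} [Field F]

section Gen

variable {m : ℕ}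

local notation "VV" => (Fin m ⊕ Fin m → F)
local notation "GG" => Matrix.symplecticGroup (Fin m) F

theorem rep_eq {g h : GG} (H : ∀ v : VV, (g : Matrix (Fin m ⊕ Fin m) (Fin m ⊕ Fin m) F) *ᵥ v =
    (h : Matrix (Fin m ⊕ Fin m) (Fin m ⊕ Fin m) F) *ᵥ v) : g = h := by
  apply Subtype.ext
  apply Matrix.mulVec_injective
  funext v
  exact H v

theorem exists_form_one {v : VV} (hv : v ≠ 0) : ∃ x, sympForm m F x v = 1 := by
  obtain ⟨x, hx⟩ : ∃ x, sympForm m F x v ≠ 0 := by
    by_contra hcon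
    push Not at hcon
    exact hv (eq_zero_of_forall_sympForm_left hcon)
  exact ⟨(sympForm m F x v)⁻¹ • x, by rw [sympForm_smul_left, inv_mul_cancel₀ hx]⟩

/-- an element trivial on `v^⊥` is a transvection with centre `v` -/
theorem eq_transv {v : VV} (hv : v ≠ 0) {z : GG}
    (hz : ∀ w : VV, sympForm m F w v = 0 → (z : Matrix (Fin m ⊕ Fin m) (Fin m ⊕ Fin m) F) *ᵥ w = w) :
    ∃ c : F, z = ClassicalGeometry.SympBasic.transv v c := by
  obtain ⟨x₀, hx₀⟩ := exists_form_one hv
  set M : Matrix (Fin m ⊕ Fin m) (Fin m ⊕ Fin m) F := (z : Matrix (Fin m ⊕ Fin m) (Fin m ⊕ Fin m) F) with hM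
  set u : VV := M *ᵥ x₀ - x₀ with hu
  have h1 : ∀ w : VV, sympForm m F w v = 0 → sympForm m F u w = 0 := by
    intro w hw
    rw [hu, sympForm_sub_left]
    nth_rewrite 1 [← hz w hw]
    rw [sympForm_mulVec z.2, sub_self]
  have h2 : ∀ x : VV, sympForm m F (x - sympForm m F x v • x₀) v = 0 := fun x => by
    rw [sympForm_sub_left, sympForm_smul_left, hx₀, mul_one, sub_self]
  have h3 : ∀ x : VV, sympForm m F u x = sympForm m F x v * sympForm m F u x₀ := by
    intro x
    have h4 := h1 _ (h2 x)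
    rw [sympForm_sub_right, sympForm_smul_right, sub_eq_zero] at h4
    exact h4
  set c : F := sympForm m F u x₀ with hc
  have h4 : u = (-c) • v := by
    apply eq_of_forall_sympForm_right
    intro x
    rw [h3, sympForm_smul_left, sympForm_swap v x]
    ring
  refine ⟨-c, rep_eq fun x => ?_⟩
  rw [coe_transv, sympTransvection_mulVec]
  have h5 := hz _ (h2 x)
  have h6 : M *ᵥ x = M *ᵥ (x - sympForm m F x v • x₀) + sympForm m F x v • (M *ᵥ x₀) := by
    rw [← Matrix.mulVec_smul, ← Matrix.mulVec_add, sub_add_cancel]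
  have h7 : M *ᵥ x₀ = x₀ + u := by rw [hu]; abel
  rw [h6]
  rw [hM] at h5 ⊢
  rw [h5]
  rw [hM] at h7
  rw [h7, smul_add, h4, smul_smul, mul_comm]
  abel

/-- the centre of the centralizer of a transvection over the field of two elements -/
theorem transv_center (hF : ∀ a : F, a = 0 ∨ a = 1) {v : VV} (hv : v ≠ 0) {z : GG}
    (hz : ∀ c : GG, c * ClassicalGeometry.SympBasic.transv v 1 = ClassicalGeometry.SympBasic.transv v 1 * c → z * c = c * z) :
    z = 1 ∨ z = ClassicalGeometry.SympBasic.transv v 1 := by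
  have key : ∀ w : VV, sympForm m F w v = 0 → (z : Matrix (Fin m ⊕ Fin m) (Fin m ⊕ Fin m) F) *ᵥ w = w := by
    intro w hw
    by_cases hw0 : w = 0
    · rw [hw0, Matrix.mulVec_zero]
    have hvw : sympForm m F v w = 0 := by rw [sympForm_swap, hw, neg_zero]
    have h1 : ClassicalGeometry.SympBasic.transv w (1 : F) * ClassicalGeometry.SympBasic.transv v 1 =
        ClassicalGeometry.SympBasic.transv v 1 * ClassicalGeometry.SympBasic.transv w 1 := by
      apply rep_eq
      intro x
      rw [coe_mul_mulVec, coe_mul_mulVec, coe_transv, coe_transv]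
      simp only [sympTransvection_mulVec, sympForm_add_left, sympForm_smul_left, hvw, hw, mul_zero, add_zero]
      abel
    have h2 := hz _ h1
    obtain ⟨x, hx⟩ := exists_form_one hw0
    have h3 : ∀ y : VV, (z : Matrix (Fin m ⊕ Fin m) (Fin m ⊕ Fin m) F) *ᵥ (y + sympForm m F y w • w) =
        (z : Matrix (Fin m ⊕ Fin m) (Fin m ⊕ Fin m) F) *ᵥ y +
          sympForm m F ((z : Matrix (Fin m ⊕ Fin m) (Fin m ⊕ Fin m) F) *ᵥ y) w • w := by
      intro y
      have h4 := congrArg (fun g : GG => (g : Matrix (Fin m ⊕ Fin m) (Fin m ⊕ Fin m) F) *ᵥ y) h2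
      simp only [coe_mul_mulVec, coe_transv, sympTransvection_mulVec, one_mul] at h4
      exact h4
    have h4 := h3 x
    rw [hx, one_smul, Matrix.mulVec_add] at h4
    have h5 := add_left_cancel h4
    rcases hF (sympForm m F ((z : Matrix (Fin m ⊕ Fin m) (Fin m ⊕ Fin m) F) *ᵥ x) w) with h6 | h6
    · exfalso
      rw [h6, zero_smul] at h5
      apply hw0
      have h7 : (1 : GG) = z⁻¹ * z := by rw [inv_mul_cancel]
      have h8 := congrArg (fun g : GG => (g : Matrix (Fin m ⊕ Fin m) (Fin m ⊕ Fin m) F) *ᵥ w) h7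
      simp only [coe_mul_mulVec, h5, Matrix.mulVec_zero] at h8
      rw [← h8]
      show w = (1 : Matrix (Fin m ⊕ Fin m) (Fin m ⊕ Fin m) F) *ᵥ w
      rw [Matrix.one_mulVec]
    · rw [h6, one_smul] at h5
      exact h5
  obtain ⟨c, hc⟩ := eq_transv hv key
  rcases hF c with h0 | h1
  · left
    rw [hc, h0]
    apply Subtype.ext
    rw [coe_transv, sympTransvection_zero]; rfl
  · right
    rw [hc, h1]

end Gen


/-! ### `Sp₆(2)` -/

section Six

local instance : Fact (Nat.Prime 2) := ⟨Nat.prime_two⟩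
local instance : Fact (Nat.Prime 3) := ⟨Nat.prime_three⟩

local notation "K2" => ZMod 2
local notation "S6" => Matrix.symplecticGroup (Fin 3) (ZMod 2)

theorem zmod_two (a : K2) : a = 0 ∨ a = 1 := by
  fin_cases a
  · exact Or.inl rfl
  · exact Or.inr rfl

theorem card_S6 : Nat.card S6 = 1451520 := by
  have h1 := S0245.result (F := K2) (q := 2) (ZMod.card 2) 3
  norm_num only [Finset.prod_range_succ] at h1
  exact h1

/-- `PSp = Sp` -/
noncomputable def toSp : PSp 3 K2 ≃* S6 :=
  (MulEquiv.ofBijective (QuotientGroup.mk' (Subgroup.center S6))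
    ⟨fun _ _ h => ClassicalGeometry.Sp4GraphAut.mk_injective (by norm_num) h, QuotientGroup.mk'_surjective _⟩).symm

theorem card_PSp6 : Nat.card (PSp 3 K2) = 1451520 := by
  rw [Nat.card_congr toSp.toEquiv, card_S6]

theorem exists_e27 : ∃ A : Subgroup S6, IsElementaryAbelian 3 A ∧ Nat.card A = 27 := by
  set x : Matrix.SpecialLinearGroup (Fin 2) K2 := Sigma.Symp.three K2 with hx
  have hx3 : x ^ 3 = 1 := Sigma.Symp.three_pow
  have hx1 : x ≠ 1 := by
    intro h
    apply Sigma.Symp.three_comm (F := K2)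
    rw [← hx, h]
    exact Commute.one_left _
  have hox : orderOf x = 3 := orderOf_eq_prime hx3 hx1
  let f : (Fin 3 → ↥(zpowers x)) →* (Fin 3 → Matrix.SpecialLinearGroup (Fin 2) K2) :=
    { toFun := fun a i => (a i : Matrix.SpecialLinearGroup (Fin 2) K2)
      map_one' := rfl
      map_mul' := fun _ _ => rfl }
  have hf : Function.Injective f := by
    intro a b h
    funext i
    exact Subtype.ext (congrFun h i)
  let g : (Fin 3 → ↥(zpowers x)) →* S6 := (Sigma.Symp.emb 3 K2).comp f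
  have hg : Function.Injective g := (Sigma.Symp.emb_injective 3).comp hf
  have hz : ∀ a : ↥(zpowers x), a ^ 3 = 1 := by
    intro a
    obtain ⟨k, hk⟩ := mem_zpowers_iff.1 a.2
    apply Subtype.ext
    rw [Subgroup.coe_pow, ← hk, ← zpow_natCast, ← zpow_mul, mul_comm, zpow_mul, zpow_natCast, hx3, one_zpow]
    rfl
  refine ⟨g.range, ⟨⟨⟨?_⟩⟩, ?_⟩, ?_⟩
  · rintro ⟨_, a, rfl⟩ ⟨_, b, rfl⟩
    apply Subtype.ext
    show g a * g b = g b * g a
    rw [← map_mul, ← map_mul]
    congr 1
    funext i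
    exact (inferInstance : IsMulCommutative ↥(zpowers x)).is_comm.comm (a i) (b i)
  · rintro _ ⟨a, rfl⟩
    rw [← map_pow]
    have : a ^ 3 = 1 := by
      funext i
      exact hz (a i)
    rw [this, map_one]
  · rw [← Nat.card_congr (MonoidHom.ofInjective hg).toEquiv, Nat.card_fun, Nat.card_zpowers, hox]
    simp

theorem noQ_S6 (A Q : Subgroup S6) (hA : IsElementaryAbelian 3 A) (hc : Nat.card A = 27) (hQ : IsPGroup 2 Q)
    (hn : A ≤ normalizer (Q : Set S6)) : Q = ⊥ := by
  refine SpLoc.eq_bot (n := 3) ?_ hA (by rw [hc]; norm_num) hQ hn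
  rw [Nat.card_zmod]
  norm_num

theorem inner_PSp (α : MulAut (PSp 3 K2)) : ∃ x : PSp 3 K2, α = MulAut.conj x := by
  have hfin : Finite S6 :=
    Finite.of_injective (fun g => (g : Matrix (Fin 3 ⊕ Fin 3) (Fin 3 ⊕ Fin 3) K2)) Subtype.val_injective
  have h1 := S0814.result (F := K2) 2 1 le_rfl (by rw [ZMod.card, pow_one]) 3 (by norm_num) (by norm_num)
  norm_num only [_root_.and_true, _root_.ite_false, _root_.mul_one, _root_.one_mul] at h1
  have hs : IsSimpleGroup (PSp 3 K2) := S0270.result 3 (by norm_num) (by norm_num)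
  have hna : ¬ IsMulCommutative (PSp 3 K2) := by
    intro h
    let _ : CommGroup (PSp 3 K2) := { (inferInstance : Group (PSp 3 K2)) with mul_comm := h.is_comm.comm }
    have h2 := IsSimpleGroup.prime_card (α := PSp 3 K2)
    rw [card_PSp6] at h2
    norm_num at h2
  have hZ : Subgroup.center (PSp 3 K2) = ⊥ := by
    refine (Subgroup.center (PSp 3 K2)).normal_of_characteristic.eq_bot_or_eq_top.resolve_right fun h => hna ⟨⟨?_⟩⟩
    intro a b
    have : a ∈ Subgroup.center (PSp 3 K2) := by rw [h]; exact Subgroup.mem_top a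
    exact ((Subgroup.mem_center_iff.1 this) b).symm
  have hinj : Function.Injective (MulAut.conj : PSp 3 K2 →* MulAut (PSp 3 K2)) := by
    rw [injective_iff_map_eq_one]
    intro a ha
    have : a ∈ Subgroup.center (PSp 3 K2) := by
      rw [Subgroup.mem_center_iff]
      intro b
      have h2 := congrArg (fun f : MulAut (PSp 3 K2) => f b) ha
      simp only [MulAut.conj_apply, MulAut.one_apply] at h2
      exact (mul_inv_eq_iff_eq_mul.1 h2).symm
    rwa [hZ, Subgroup.mem_bot] at this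
  have hfA : Finite (MulAut (PSp 3 K2)) := Finite.of_injective (fun f : MulAut (PSp 3 K2) => (f : PSp 3 K2 → PSp 3 K2))
    fun f g h => MulEquiv.ext fun x => congrFun h x
  have hb : Function.Bijective (MulAut.conj : PSp 3 K2 →* MulAut (PSp 3 K2)) :=
    (Nat.bijective_iff_injective_and_card _).2 ⟨hinj, h1.symm⟩
  obtain ⟨x, hx⟩ := hb.2 α
  exact ⟨x, hx.symm⟩


/-- the vector -/
def v0 : Fin 3 ⊕ Fin 3 → K2 := Pi.single (Sum.inl 0) 1

theorem v0_ne : v0 ≠ 0 := by
  intro h
  have := congrFun h (Sum.inl 0)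
  rw [v0, Pi.single_eq_same] at this
  exact one_ne_zero this

/-- the transvection -/
def t0 : S6 := ClassicalGeometry.SympBasic.transv v0 1

theorem t0_sq : t0 * t0 = 1 := by
  apply Subtype.ext
  rw [Submonoid.coe_mul, t0, coe_transv, sympTransvection_mul, CharTwo.add_self_eq_zero, sympTransvection_zero]
  rfl

theorem t0_mul (x : Fin 3 ⊕ Fin 3 → K2) : (t0 : Matrix (Fin 3 ⊕ Fin 3) (Fin 3 ⊕ Fin 3) K2) *ᵥ x =
    x + sympForm 3 K2 x v0 • v0 := by
  rw [t0, coe_transv, sympTransvection_mulVec, one_mul]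

theorem t0_ne : t0 ≠ 1 := by
  intro h
  obtain ⟨x, hx⟩ := exists_form_one v0_ne
  have h1 := t0_mul x
  rw [h, hx, one_smul] at h1
  have h2 : ((1 : S6) : Matrix (Fin 3 ⊕ Fin 3) (Fin 3 ⊕ Fin 3) K2) *ᵥ x = x := Matrix.one_mulVec x
  rw [h2] at h1
  exact v0_ne (left_eq_add.1 h1)

theorem comm_t0 {g : S6} : g * t0 = t0 * g ↔ (g : Matrix (Fin 3 ⊕ Fin 3) (Fin 3 ⊕ Fin 3) K2) *ᵥ v0 = v0 := by
  constructor
  · intro h
    obtain ⟨x, hx⟩ := exists_form_one v0_ne
    have h1 := congrArg (fun g : S6 => (g : Matrix (Fin 3 ⊕ Fin 3) (Fin 3 ⊕ Fin 3) K2) *ᵥ x) h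
    simp only [coe_mul_mulVec] at h1
    rw [t0_mul, t0_mul, hx, one_smul, Matrix.mulVec_add] at h1
    have h2 := add_left_cancel h1
    rcases zmod_two (sympForm 3 K2 ((g : Matrix (Fin 3 ⊕ Fin 3) (Fin 3 ⊕ Fin 3) K2) *ᵥ x) v0) with h3 | h3
    · exfalso
      rw [h3, zero_smul] at h2
      apply v0_ne
      have h7 : (1 : S6) = g⁻¹ * g := by rw [inv_mul_cancel]
      have h8 := congrArg (fun g : S6 => (g : Matrix (Fin 3 ⊕ Fin 3) (Fin 3 ⊕ Fin 3) K2) *ᵥ v0) h7
      simp only [coe_mul_mulVec, h2, Matrix.mulVec_zero] at h8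
      rw [← h8]
      show v0 = (1 : Matrix (Fin 3 ⊕ Fin 3) (Fin 3 ⊕ Fin 3) K2) *ᵥ v0
      rw [Matrix.one_mulVec]
    · rw [h3, one_smul] at h2
      exact h2
  · intro h
    apply rep_eq
    intro x
    rw [coe_mul_mulVec, coe_mul_mulVec, t0_mul, t0_mul, Matrix.mulVec_add, Matrix.mulVec_smul, h]
    congr 2
    nth_rewrite 2 [← h]
    rw [sympForm_mulVec g.2]

/-- the second transvection -/
def w0 : Fin 3 ⊕ Fin 3 → K2 := Pi.single (Sum.inl 1) 1

def s0 : S6 := ClassicalGeometry.SympBasic.transv w0 1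

theorem s0_sq : s0 * s0 = 1 := by
  apply Subtype.ext
  rw [Submonoid.coe_mul, s0, coe_transv, sympTransvection_mul, CharTwo.add_self_eq_zero, sympTransvection_zero]
  rfl

theorem s0_mul (x : Fin 3 ⊕ Fin 3 → K2) : (s0 : Matrix (Fin 3 ⊕ Fin 3) (Fin 3 ⊕ Fin 3) K2) *ᵥ x =
    x + sympForm 3 K2 x w0 • w0 := by
  rw [s0, coe_transv, sympTransvection_mulVec, one_mul]

/-- a vector moved by `s0` and not by `t0` -/
theorem s0_move : ∃ x, (s0 : Matrix (Fin 3 ⊕ Fin 3) (Fin 3 ⊕ Fin 3) K2) *ᵥ x ≠ x ∧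
    (t0 : Matrix (Fin 3 ⊕ Fin 3) (Fin 3 ⊕ Fin 3) K2) *ᵥ x = x := by
  refine ⟨Pi.single (Sum.inr 1) 1, ?_, ?_⟩
  · rw [s0_mul, sympForm_single_inr_left]
    intro h
    have h1 := congrFun h (Sum.inl 1)
    simp only [w0, _root_.Fin.isValue, _root_.Pi.single_eq_same, _root_.one_smul, _root_.Pi.add_apply, _root_.ne_eq, _root_.reduceCtorEq, _root_.not_false_eq_true, _root_.Pi.single_eq_of_ne, _root_.zero_add, _root_.one_ne_zero] at h1
  · rw [t0_mul, sympForm_single_inr_left]
    have : v0 (Sum.inl 1) = 0 := by simp [v0]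
    rw [this, zero_smul, add_zero]

theorem s0_comm : t0 * s0 = s0 * t0 := by
  have h1 : sympForm 3 K2 v0 w0 = 0 := by
    rw [w0, sympForm_single_inl_right]
    simp [v0]
  have h2 : sympForm 3 K2 w0 v0 = 0 := by rw [sympForm_swap, h1, neg_zero]
  apply rep_eq
  intro x
  rw [coe_mul_mulVec, coe_mul_mulVec, t0_mul, s0_mul, s0_mul, t0_mul]
  simp only [sympForm_add_left, sympForm_smul_left, h1, h2, mul_zero, add_zero]
  abel

theorem card_cen : Nat.card (centralizer ({t0} : Set S6)) = 23040 := by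
  have hfin : Finite S6 :=
    Finite.of_injective (fun g => (g : Matrix (Fin 3 ⊕ Fin 3) (Fin 3 ⊕ Fin 3) K2)) Subtype.val_injective
  let act : MulAction S6 (Fin 3 ⊕ Fin 3 → K2) :=
    { smul := fun g x => (g : Matrix (Fin 3 ⊕ Fin 3) (Fin 3 ⊕ Fin 3) K2) *ᵥ x
      one_smul := fun x => Matrix.one_mulVec x
      mul_smul := fun g h x => coe_mul_mulVec g h x }
  have h1 : centralizer ({t0} : Set S6) = MulAction.stabilizer S6 v0 := by
    ext g
    rw [mem_centralizer_singleton_iff, MulAction.mem_stabilizer_iff]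
    exact comm_t0
  have h2 : MulAction.orbit S6 v0 = {x | x ≠ 0} := by
    ext x
    constructor
    · rintro ⟨g, rfl⟩ h0
      apply v0_ne
      have h3 : (g : Matrix (Fin 3 ⊕ Fin 3) (Fin 3 ⊕ Fin 3) K2) *ᵥ v0 = 0 := h0
      have h7 : (1 : S6) = g⁻¹ * g := by rw [inv_mul_cancel]
      have h8 := congrArg (fun g : S6 => (g : Matrix (Fin 3 ⊕ Fin 3) (Fin 3 ⊕ Fin 3) K2) *ᵥ v0) h7
      simp only [coe_mul_mulVec, h3, Matrix.mulVec_zero] at h8
      rw [← h8]
      show v0 = (1 : Matrix (Fin 3 ⊕ Fin 3) (Fin 3 ⊕ Fin 3) K2) *ᵥ v0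
      rw [Matrix.one_mulVec]
    · intro hx
      obtain ⟨A, -, hA⟩ := exists_transvGroup_mulVec_eq (F := K2) v0_ne hx
      exact ⟨A, hA⟩
  have h3 := MulAction.index_stabilizer S6 v0
  have h4 := Subgroup.index_mul_card (MulAction.stabilizer S6 v0)
  rw [h3, h2, card_S6] at h4
  have h5 : Set.ncard {x : Fin 3 ⊕ Fin 3 → K2 | x ≠ 0} = 63 := by
    have h6 : ({x : Fin 3 ⊕ Fin 3 → K2 | x ≠ 0} : Set _) = {0}ᶜ := rfl
    rw [h6, Set.ncard_compl, Set.ncard_singleton, Nat.card_fun, Nat.card_zmod]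
    norm_num
  rw [h5, ← h1] at h4
  omega

theorem five_dvd : 5 ∣ Nat.card (centralizer ({t0} : Set S6)) := by
  rw [card_cen]
  norm_num

end Six

theorem facts_S6 {L : Type*} [Group L] (e : L ≃* Matrix.symplecticGroup (Fin 3) (ZMod 2)) : Facts L := by
  have hfin : Finite (Matrix.symplecticGroup (Fin 3) (ZMod 2)) :=
    Finite.of_injective (fun g => (g : Matrix (Fin 3 ⊕ Fin 3) (Fin 3 ⊕ Fin 3) (ZMod 2))) Subtype.val_injective
  have hcard : Nat.card L = 1451520 := by rw [Nat.card_congr e.toEquiv, card_S6]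
  have e' : L ≃* PSp 3 (ZMod 2) := e.trans toSp.symm
  have hs' : IsSimpleGroup (PSp 3 (ZMod 2)) := S0270.result 3 (by norm_num) (by norm_num)
  have hs : IsSimpleGroup L := by
    have : Nontrivial L := e'.toEquiv.nontrivial
    exact IsSimpleGroup.isSimpleGroup_of_surjective e'.symm.toMonoidHom e'.symm.surjective
  have hna : ¬ IsMulCommutative L := by
    intro h
    let _ : CommGroup L := { (inferInstance : Group L) with mul_comm := h.is_comm.comm }
    have hf : Finite L := Finite.of_equiv _ e.symm.toEquiv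
    have h2 := IsSimpleGroup.prime_card (α := L)
    rw [hcard] at h2
    norm_num at h2
  refine ⟨Finite.of_equiv _ e.symm.toEquiv, hs, hna, ?_, ?_, ?_, ?_, ?_, hcard, ?_⟩
  · intro α
    obtain ⟨x, hx⟩ := inner_PSp ((MulAut.congr e') α)
    refine ⟨e'.symm x, ?_⟩
    ext y
    have h1 : (MulAut.congr e') α (e' y) = x * e' y * x⁻¹ := by rw [hx, MulAut.conj_apply]
    have h2 : (MulAut.congr e') α (e' y) = e' (α y) := by simp [MulAut.congr]
    rw [h2] at h1
    apply e'.injective
    rw [h1, MulAut.conj_apply, map_mul, map_mul, map_inv, MulEquiv.apply_symm_apply]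
  · obtain ⟨A, hA, hc⟩ := exists_e27
    refine ⟨A.map e.symm.toMonoidHom, ⟨⟨⟨?_⟩⟩, ?_⟩, ?_⟩
    · rintro ⟨_, a, ha, rfl⟩ ⟨_, b, hb, rfl⟩
      apply Subtype.ext
      show e.symm a * e.symm b = e.symm b * e.symm a
      rw [← map_mul, ← map_mul]
      congr 1
      exact congrArg Subtype.val (hA.1.is_comm.comm ⟨a, ha⟩ ⟨b, hb⟩)
    · rintro _ ⟨a, ha, rfl⟩
      show e.symm a ^ 3 = 1
      rw [← map_pow, hA.2 a ha, map_one]
    · rw [Subgroup.card_map_of_injective e.symm.injective, hc]
  · intro A Q hA hc hQ hn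
    have h1 : Q.map e.toMonoidHom = ⊥ := by
      refine noQ_S6 (A.map e.toMonoidHom) _ ⟨⟨⟨?_⟩⟩, ?_⟩ ?_ (hQ.map _) ?_
      · rintro ⟨_, a, ha, rfl⟩ ⟨_, b, hb, rfl⟩
        apply Subtype.ext
        show e a * e b = e b * e a
        rw [← map_mul, ← map_mul]
        congr 1
        exact congrArg Subtype.val (hA.1.is_comm.comm ⟨a, ha⟩ ⟨b, hb⟩)
      · rintro _ ⟨a, ha, rfl⟩
        show e a ^ 3 = 1
        rw [← map_pow, hA.2 a ha, map_one]
      · rw [Subgroup.card_map_of_injective e.injective, hc]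
      · rintro _ ⟨a, ha, rfl⟩
        rw [mem_normalizer_iff]
        intro y
        constructor
        · rintro ⟨x, hx, rfl⟩
          exact ⟨a * x * a⁻¹, (mem_normalizer_iff.1 (hn ha) x).1 hx, by simp only [_root_.MulEquiv.toMonoidHom_eq_coe, _root_.MonoidHom.coe_coe, _root_.map_mul, _root_.map_inv]⟩
        · rintro ⟨x, hx, hxy⟩
          have h2 : e (a⁻¹ * x * a) = y := by
            have h3 : e x = e a * y * (e a)⁻¹ := hxy
            rw [map_mul, map_mul, map_inv, h3]
            group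
          refine ⟨a⁻¹ * x * a, ?_, h2⟩
          have h4 := (mem_normalizer_iff.1 (inv_mem (hn ha)) x).1 hx
          rwa [inv_inv] at h4
    exact (Subgroup.map_eq_bot_iff_of_injective _ e.injective).1 h1
  · exact SigZeroU5.rk_psp ⟨ZMod 2, inferInstance, inferInstance, 3, by rw [ZMod.card]; exact even_two,
      ⟨by norm_num, le_rfl⟩, ⟨e'⟩⟩ Nat.prime_three (by norm_num)
  · have h1 : (centralizer ({e.symm t0} : Set L)) = (centralizer ({t0} : Set _)).map e.symm.toMonoidHom := by
      ext g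
      rw [mem_centralizer_singleton_iff]
      constructor
      · intro h
        refine ⟨e g, ?_, e.symm_apply_apply g⟩
        have h2 := congrArg e h
        rw [map_mul, map_mul, e.apply_symm_apply] at h2
        exact mem_centralizer_singleton_iff.2 h2
      · rintro ⟨x, hx, rfl⟩
        show e.symm x * e.symm t0 = e.symm t0 * e.symm x
        rw [← map_mul, ← map_mul, mem_centralizer_singleton_iff.1 hx]
    refine ⟨e.symm t0, fun h => t0_ne ?_, ?_, ?_, ?_, ?_⟩
    · rw [← e.apply_symm_apply t0, h, map_one]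
    · rw [← map_mul, t0_sq, map_one]
    · rw [h1, Subgroup.card_map_of_injective e.symm.injective]
      exact five_dvd
    rotate_left
    · rw [h1, Subgroup.card_map_of_injective e.symm.injective, card_cen]
      norm_num
    · intro z _ hc
      have h1 : e z = 1 ∨ e z = ClassicalGeometry.SympBasic.transv v0 1 := by
        refine transv_center zmod_two v0_ne ?_
        intro c hc'
        have h2 := hc (e.symm c) (by
          have h3 := congrArg e.symm hc'
          rw [map_mul, map_mul] at h3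
          exact h3)
        have h3 := congrArg e h2
        rw [map_mul, map_mul, e.apply_symm_apply] at h3
        exact h3
      rcases h1 with h1 | h1
      · left
        rw [← e.symm_apply_apply z, h1, map_one]
      · right
        rw [← e.symm_apply_apply z, h1]
        rfl
  · refine ⟨e.symm t0, e.symm s0, fun h => t0_ne ?_, fun h => ?_, fun h => ?_, ?_, ?_, ?_⟩
    · rw [← e.apply_symm_apply t0, h, map_one]
    · obtain ⟨x, hx, -⟩ := s0_move
      apply hx
      rw [← e.apply_symm_apply s0, h, map_one]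
      exact Matrix.one_mulVec x
    · obtain ⟨x, hx, hx'⟩ := s0_move
      apply hx
      rw [← e.symm.injective h]
      exact hx'
    · rw [← map_mul, t0_sq, map_one]
    · rw [← map_mul, s0_sq, map_one]
    · rw [← map_mul, ← map_mul, s0_comm]

/-- **`Sp₆(2)`.** -/
theorem facts {L : Type*} [Group L] {F : Type*} [Field F] [Fintype F] (hF : Fintype.card F = 2) (e : L ≃* PSp 3 F) :
    Facts L := by
  have : Fact (Nat.Prime 2) := ⟨Nat.prime_two⟩
  exact facts_S6 ((e.trans (LieClassical.FieldTransfer.pspCongr 3 (ZMod.ringEquivOfPrime F Nat.prime_two hF).symm)).trans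
    toSp)

end SpSix

end Cfsg.Agent.H299
end

private theorem dce_d0355a5142a8 : _root_.True := by
  try have : _root_.True := by simp only [_root_.Cfsg.Agent.H299.SpSix.t0.eq_1]
  try have : _root_.True := by simp only [_root_.Cfsg.Agent.H299.SpSix.w0.eq_1]
  try have : _root_.True := by simp only [_root_.Cfsg.Agent.H299.SpSix.v0.eq_1]
  try have : _root_.True := by simp only [_root_.Cfsg.Agent.H299.SpSix.s0.eq_1]
  exact _root_.True.intro
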